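import Groth.Agent.AlgGrp.K398.Pts
import Groth.Agent.S14577
import Groth.Agent.S8015
import Groth.Agent.S11412
import Groth.Agent.AlgGrp.K393.AntiMin
import Groth.Agent.Pic13.H965.AffHom
import Groth.Agent.NonAbH1.K554.StabAff
import Groth.Agent.AbVar.K528.Irr
import Groth.Agent.AlgGrp.K399.Basic

/-!
# Groups acting faithfully on an almost homogeneous variety of an affine group are affine

`G₀` affine, smooth, connected, acting on the variety `X` with an open orbit; then every group scheme of finite type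
acting faithfully on `X` is affine.  The anti-affine part `N` of the group commutes with `G₀` (rigidity), the
stabilizer `H` of the point in `N × G₀` surjects onto `N`, and the kernel of `H ⟶ G₀` fixes a point, so is affine.
-/

set_option autoImplicit false
universe u
open CategoryTheory MonoidalCategory CartesianMonoidalCategory MonObj GrpObj AlgebraicGeometry Limits
open Groth.Agent.Books.BorelOrb K554.FibAct K554.StabAff

namespace K244.AffCrit

variable {k : Type u} [Field k]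

/-- Actions of an anti-affine group commute with actions of integral groups. -/
theorem commute [IsAlgClosed k] {N G₀ X : Over (Spec (CommRingCat.of k))} [GrpObj N] [GrpObj G₀]
    [QuasiCompact N.hom] [IsSeparated N.hom]
    (hN : Function.Bijective ((Scheme.ΓSpecIso (CommRingCat.of k)).inv ≫ N.hom.appTop).hom)
    [LocallyOfFiniteType G₀.hom] [IsSeparated G₀.hom] [IsIntegral G₀.left]
    [LocallyOfFiniteType X.hom] [IsSeparated X.hom] [IsIntegral X.left]
    (aN : AlgGrp.Action N X) (a₀ : AlgGrp.Action G₀ X) (x : 𝟙_ (Over (Spec (CommRingCat.of k))) ⟶ X)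
    {T : Over (Spec (CommRingCat.of k))} (m : T ⟶ N) (g : T ⟶ G₀) (y : T ⟶ X) :
    sm aN m (sm a₀ g y) = sm a₀ g (sm aN m y) := by
  have hi : IsIntegral (G₀ ⊗ X).left := K528.Irr.isIntegral_tensor G₀ X
  have hlft : LocallyOfFiniteType (G₀ ⊗ X).hom := by
    rw [Over.tensorObj_hom]; infer_instance
  have hs : IsSeparated (G₀ ⊗ X).hom := by
    rw [Over.tensorObj_hom]; infer_instance
  have hNoeth : IsLocallyNoetherian (G₀ ⊗ X).left := LocallyOfFiniteType.isLocallyNoetherian (G₀ ⊗ X).hom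
  let m' : N ⊗ (G₀ ⊗ X) ⟶ N := fst _ _
  let g' : N ⊗ (G₀ ⊗ X) ⟶ G₀ := snd _ _ ≫ fst _ _
  let y' : N ⊗ (G₀ ⊗ X) ⟶ X := snd _ _ ≫ snd _ _
  let f : N ⊗ (G₀ ⊗ X) ⟶ X := sm aN m'⁻¹ (sm a₀ g' (sm aN m' (sm a₀ g'⁻¹ y')))
  have hfc : ∀ {R : Over (Spec (CommRingCat.of k))} (t : R ⟶ N ⊗ (G₀ ⊗ X)), t ≫ f =
      sm aN (t ≫ m')⁻¹ (sm a₀ (t ≫ g') (sm aN (t ≫ m') (sm a₀ (t ≫ g')⁻¹ (t ≫ y')))) := by
    intro R t
    change t ≫ sm aN m'⁻¹ (sm a₀ g' (sm aN m' (sm a₀ g'⁻¹ y'))) = _
    rw [comp_sm, comp_sm, comp_sm, comp_sm, GrpObj.comp_inv, GrpObj.comp_inv]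
  have hf : (N ◁ (lift η[G₀] x)) ≫ f = toUnit _ ≫ lift η[N] (lift η[G₀] x) ≫ f := by
    have e1 : (N ◁ (lift η[G₀] x)) ≫ g' = 1 := by
      change (N ◁ (lift η[G₀] x)) ≫ snd _ _ ≫ fst _ _ = 1
      rw [whiskerLeft_snd_assoc, lift_fst, Hom.one_def, toUnit_unique (snd N (𝟙_ _)) (toUnit _)]
    have e2 : lift η[N] (lift η[G₀] x) ≫ m' = 1 := by
      change lift η[N] (lift η[G₀] x) ≫ fst _ _ = 1
      rw [lift_fst, Hom.one_def, toUnit_unique (toUnit _) (𝟙 _), Category.id_comp]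
    have e3 : lift η[N] (lift η[G₀] x) ≫ g' = 1 := by
      change lift η[N] (lift η[G₀] x) ≫ snd _ _ ≫ fst _ _ = 1
      rw [lift_snd_assoc, lift_fst, Hom.one_def, toUnit_unique (toUnit _) (𝟙 _), Category.id_comp]
    have e4 : lift η[N] (lift η[G₀] x) ≫ y' = x := by
      change lift η[N] (lift η[G₀] x) ≫ snd _ _ ≫ snd _ _ = x
      rw [lift_snd_assoc, lift_snd]
    have e5 : (N ◁ (lift η[G₀] x)) ≫ y' = toUnit _ ≫ x := by
      change (N ◁ (lift η[G₀] x)) ≫ snd _ _ ≫ snd _ _ = _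
      rw [whiskerLeft_snd_assoc, lift_snd, toUnit_unique (snd N (𝟙_ _)) (toUnit _)]
    rw [hfc, hfc, e1, e2, e3, e4, e5]
    simp only [inv_one, one_sm]
    rw [← mul_sm, inv_mul_cancel, one_sm]
  have h1 := Groth.Agent.S14577.result k N (G₀ ⊗ X) X hN η[N] (lift η[G₀] x) f hf
  have h2 : f = y' := by
    rw [h1]
    change snd _ _ ≫ _ = snd _ _ ≫ snd _ _
    congr 1
    have e1 : lift (toUnit (G₀ ⊗ X) ≫ η[N]) (𝟙 (G₀ ⊗ X)) ≫ m' = 1 := by
      change lift (toUnit (G₀ ⊗ X) ≫ η[N]) (𝟙 (G₀ ⊗ X)) ≫ fst _ _ = 1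
      rw [lift_fst, Hom.one_def]
    have e2 : lift (toUnit (G₀ ⊗ X) ≫ η[N]) (𝟙 (G₀ ⊗ X)) ≫ y' = snd _ _ := by
      change lift (toUnit (G₀ ⊗ X) ≫ η[N]) (𝟙 (G₀ ⊗ X)) ≫ snd _ _ ≫ snd _ _ = _
      rw [lift_snd_assoc, Category.id_comp]
    rw [hfc, e1, e2, inv_one, one_sm, one_sm, ← mul_sm, mul_inv_cancel, one_sm]
  have h3 := hfc (lift m (lift g (sm a₀ g y)))
  have e1 : lift m (lift g (sm a₀ g y)) ≫ m' = m := lift_fst _ _
  have e2 : lift m (lift g (sm a₀ g y)) ≫ g' = g := by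
    change lift m (lift g (sm a₀ g y)) ≫ snd _ _ ≫ fst _ _ = _
    rw [lift_snd_assoc, lift_fst]
  have e3 : lift m (lift g (sm a₀ g y)) ≫ y' = sm a₀ g y := by
    change lift m (lift g (sm a₀ g y)) ≫ snd _ _ ≫ snd _ _ = _
    rw [lift_snd_assoc, lift_snd]
  rw [h2, e1, e2, e3, ← mul_sm a₀ g⁻¹ g, inv_mul_cancel, one_sm] at h3
  calc sm aN m (sm a₀ g y) = sm aN m (sm aN m⁻¹ (sm a₀ g (sm aN m y))) := by rw [← h3]
    _ = sm a₀ g (sm aN m y) := by rw [← mul_sm, mul_inv_cancel, one_sm]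

/-- Restriction of an action along a homomorphism. -/
theorem exists_res {S : Scheme.{u}} {N G X : Over S} [GrpObj N] [GrpObj G] (i : N ⟶ G) [IsMonHom i]
    (a : AlgGrp.Action G X) : ∃ b : AlgGrp.Action N X, ∀ (T : Over S) (n : T ⟶ N) (x : T ⟶ X),
      sm b n x = sm a (n ≫ i) x := by
  obtain ⟨b, hb⟩ := exists_subAct i a (𝟙 X) (fun R h v => ⟨sm a (h ≫ i) v, by simp⟩)
  exact ⟨b, fun T n x => by simpa using hb T n x⟩

/-- The product action of two commuting actions. -/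
theorem exists_prod {S : Scheme.{u}} {N G X : Over S} [GrpObj N] [GrpObj G] (a : AlgGrp.Action N X)
    (b : AlgGrp.Action G X) (h : ∀ (T : Over S) (m : T ⟶ N) (g : T ⟶ G) (y : T ⟶ X),
      sm a m (sm b g y) = sm b g (sm a m y)) :
    ∃ c : AlgGrp.Action (N ⊗ G) X, ∀ (T : Over S) (p : T ⟶ N ⊗ G) (y : T ⟶ X),
      sm c p y = sm a (p ≫ fst N G) (sm b (p ≫ snd N G) y) := by
  let act : (N ⊗ G) ⊗ X ⟶ X := sm a (fst _ _ ≫ fst _ _) (sm b (fst _ _ ≫ snd _ _) (snd _ _))
  have hact : ∀ {T : Over S} (p : T ⟶ N ⊗ G) (y : T ⟶ X), lift p y ≫ act =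
      sm a (p ≫ fst N G) (sm b (p ≫ snd N G) y) := by
    intro T p y
    change lift p y ≫ sm a (fst _ _ ≫ fst _ _) (sm b (fst _ _ ≫ snd _ _) (snd _ _)) = _
    rw [comp_sm, comp_sm, lift_fst_assoc, lift_fst_assoc, lift_snd]
  have e1 : ∀ {T : Over S}, (1 : T ⟶ N ⊗ G) ≫ fst N G = 1 := fun {T} => MonObj.one_comp _
  have e2 : ∀ {T : Over S}, (1 : T ⟶ N ⊗ G) ≫ snd N G = 1 := fun {T} => MonObj.one_comp _
  refine ⟨mkAction act ?_ ?_, fun T p y => ?_⟩
  · intro T y
    rw [hact, e1, e2, one_sm, one_sm]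
  · intro T p q y
    rw [hact, hact, hact, MonObj.mul_comp, MonObj.mul_comp, mul_sm, mul_sm, h T (q ≫ fst N G)]
  · rw [sm_mkAction, hact]

/-- Translates of the open orbit of a point meet it. -/
theorem exists_pts [IsAlgClosed k] {N G₀ X : Over (Spec (CommRingCat.of k))} [GrpObj N] [GrpObj G₀]
    [LocallyOfFiniteType G₀.hom] [LocallyOfFiniteType X.hom] [IrreducibleSpace X.left]
    (aN : AlgGrp.Action N X) (a₀ : AlgGrp.Action G₀ X) (x : 𝟙_ (Over (Spec (CommRingCat.of k))) ⟶ X)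
    (hx : IsOpen (Set.range ⇑(a₀.orbitMap x).left.base)) (y : 𝟙_ (Over (Spec (CommRingCat.of k))) ⟶ N) :
    ∃ g g' : 𝟙_ (Over (Spec (CommRingCat.of k))) ⟶ G₀, sm aN y (sm a₀ g x) = sm a₀ g' x := by
  let o := a₀.orbitMap x
  have ho : ∀ g : 𝟙_ (Over (Spec (CommRingCat.of k))) ⟶ G₀, g ≫ o = sm a₀ g x := by
    intro g
    have h := comp_orbitMap a₀ g x
    rwa [toUnit_unique (toUnit _) (𝟙 _), Category.id_comp] at h
  let τ : X ⟶ X := tr aN y⁻¹
  let τ' : X ⟶ X := tr aN y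
  have hτ : τ' ≫ τ = 𝟙 X := by
    change tr aN y ≫ tr aN y⁻¹ = _
    rw [← tr_mul, inv_mul_cancel, tr_one]
  let U : Set X.left := Set.range o.left
  have hU : IsOpen U := hx
  have hV : IsOpen (τ.left ⁻¹' U) := hU.preimage τ.left.continuous
  have hne : U.Nonempty := ⟨o.left (Groth.Agent.Books.AlgPts.pt (1 : 𝟙_ _ ⟶ G₀)), ⟨_, rfl⟩⟩
  have hneV : (τ.left ⁻¹' U).Nonempty := by
    obtain ⟨z, hz⟩ := hne
    refine ⟨τ'.left z, ?_⟩
    have h1 : τ.left (τ'.left z) = z := by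
      rw [← Scheme.Hom.comp_apply, ← Over.comp_left, hτ]
      rfl
    rw [Set.mem_preimage, h1]
    exact hz
  obtain ⟨z, hz⟩ := Groth.Agent.Books.AlgPts.exists_pt_mem (X := X)
    (nonempty_preirreducible_inter hU hV hne hneV) (hU.inter hV).isLocallyClosed
  obtain ⟨g', hg'⟩ := Groth.Agent.Books.AlgPts.exists_comp_eq_of_pt_mem_range o z hz.1
  obtain ⟨g, hg⟩ := Groth.Agent.Books.AlgPts.exists_comp_eq_of_pt_mem_range o (z ≫ τ) (by
    rw [Groth.Agent.Books.AlgPts.pt_comp]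
    exact hz.2)
  refine ⟨g, g', ?_⟩
  rw [← ho, ← ho, hg, hg']
  change sm aN y (z ≫ tr aN y⁻¹) = z
  rw [comp_tr, toUnit_unique (toUnit _) (𝟙 _), Category.id_comp, ← mul_sm, mul_inv_cancel, one_sm]

/-- A group scheme of finite type acting faithfully on an almost homogeneous variety of an affine group is affine. -/
theorem isAffine [IsAlgClosed k] {G₀ X : Over (Spec (CommRingCat.of k))} [GrpObj G₀] [IsAffine G₀.left]
    [Smooth G₀.hom] [ConnectedSpace G₀.left] [IsSeparated X.hom] [LocallyOfFiniteType X.hom] [QuasiCompact X.hom]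
    [IsIntegral X.left] (a₀ : AlgGrp.Action G₀ X) (x : 𝟙_ (Over (Spec (CommRingCat.of k))) ⟶ X)
    (hx : IsOpen (Set.range ⇑(a₀.orbitMap x).left.base))
    (G : Over (Spec (CommRingCat.of k))) [GrpObj G] [LocallyOfFiniteType G.hom] [QuasiCompact G.hom]
    (a : AlgGrp.Action G X) (hfa : ∀ (T : Over (Spec (CommRingCat.of k))) (g : T ⟶ G),
      lift (fst T X ≫ g) (snd T X) ≫ a.act = snd T X → g = toUnit T ≫ η[G]) : IsAffine G.left := by
  obtain ⟨N, _, n, hn1, hn2, hN, hN4⟩ := K393.AntiMin.exists_antiAffine G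
  have hmn : Mono n := Groth.Agent.Books.AlgPtsGrp.mono_of_isClosedImmersion n
  have hNlft : LocallyOfFiniteType N.hom := by
    rw [← Over.w n]; infer_instance
  have hNqc : QuasiCompact N.hom := by
    rw [← Over.w n]; infer_instance
  have hNs : IsSeparated N.hom := Groth.Agent.Books.AntiAffine.isSeparated_hom N
  have hNsm : Smooth N.hom := (Groth.Agent.S11412.result k N hN).1
  have hNred : IsReduced N.left := Groth.Agent.Books.AlgPtsSmooth.isReduced_of_smooth N
  have hGi : IsIntegral G₀.left := by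
    have : GeometricallyIntegral G₀.hom := K399.Basic.geometricallyIntegral G₀
    exact GeometricallyIntegral.isIntegral_of_subsingleton G₀.hom
  have hGs : IsSeparated G₀.hom := Groth.Agent.Books.AntiAffine.isSeparated_hom G₀
  obtain ⟨aN, haN⟩ := exists_res n a
  obtain ⟨c, hc⟩ := exists_prod aN a₀ fun T m g y => commute hN aN a₀ x m g y
  have hxc : IsClosedImmersion x.left := by
    have h1 : IsClosedImmersion (x.left ≫ X.hom) := by
      rw [Over.w]
      exact inferInstanceAs (IsClosedImmersion (𝟙 (Spec (CommRingCat.of k))))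
    exact IsClosedImmersion.of_comp x.left X.hom
  obtain ⟨H, _, i, hi1, hi2, hi3, hi4⟩ := exists_stabilizer c x
  have hsepx : ∀ (T : Over (Spec (CommRingCat.of k))) (t : T ⟶ H), sm aN (t ≫ i ≫ fst N G₀)
      (sm a₀ (t ≫ i ≫ snd N G₀) (toUnit T ≫ x)) = toUnit T ≫ x := by
    intro T t
    have h := (hi4 T (t ≫ i)).1 ⟨t, rfl⟩
    rwa [hc, Category.assoc, Category.assoc] at h
  have hHlft : LocallyOfFiniteType H.hom := by
    have h1 : LocallyOfFiniteType (N ⊗ G₀).hom := by rw [Over.tensorObj_hom]; infer_instance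
    rw [← Over.w i]; infer_instance
  have hHqc : QuasiCompact H.hom := by
    have h1 : QuasiCompact (N ⊗ G₀).hom := by rw [Over.tensorObj_hom]; infer_instance
    rw [← Over.w i]; infer_instance
  have hf1 : IsMonHom (fst N G₀) := inferInstance
  have hf2 : IsMonHom (snd N G₀) := inferInstance
  let u : H ⟶ G₀ := i ≫ snd N G₀
  have hu : IsMonHom u := inferInstance
  let p : H ⟶ N := i ≫ fst N G₀
  have hp : IsMonHom p := inferInstance
  have hext : ∀ {T : Over (Spec (CommRingCat.of k))} (s t : T ⟶ H), s ≫ p = t ≫ p → s ≫ u = t ≫ u → s = t := by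
    intro T s t h1 h2
    rw [← cancel_mono i]
    apply CartesianMonoidalCategory.hom_ext
    · simpa only [Category.assoc] using h1
    · simpa only [Category.assoc] using h2
  -- the kernel of `H ⟶ G₀` is affine
  obtain ⟨_, hkι⟩ := Groth.Agent.Sga3B.KerGrp.exists_grpObj u
  let K := Groth.Agent.Sga3B.KerGrp.kerObj u
  let κ : K ⟶ H := Groth.Agent.Sga3B.KerGrp.kerι u
  have hκu : κ ≫ u = 1 := Groth.Agent.Sga3B.KerGrp.kerι_comp u
  have hκc : IsClosedImmersion κ.left := inferInstance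
  have hKlft : LocallyOfFiniteType K.hom := by
    rw [← Over.w κ]; infer_instance
  have hKqc : QuasiCompact K.hom := by
    rw [← Over.w κ]; infer_instance
  have hj : IsMonHom (κ ≫ p) := inferInstance
  obtain ⟨aK, haK⟩ := exists_res (κ ≫ p) aN
  have hfix : aK.IsFixedPt x := by
    intro T t
    change sm aK t (toUnit T ≫ x) = toUnit T ≫ x
    rw [haK]
    have h := hsepx T (t ≫ κ)
    have h1 : (t ≫ κ) ≫ i ≫ snd N G₀ = 1 := by
      rw [Category.assoc]
      change t ≫ κ ≫ u = 1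
      rw [hκu, MonObj.comp_one]
    rw [h1, one_sm, Category.assoc] at h
    exact h
  have hKaff : IsAffine K.left := by
    refine Groth.Agent.S8015.result k K X aK (fun T g hg => ?_) x hfix
    have h1 : g ≫ κ ≫ p = 1 := by
      rw [← cancel_mono n]
      have h2 := hfa T ((g ≫ κ ≫ p) ≫ n) (by
        have h3 := hg (T ⊗ X) (fst T X) (snd T X)
        change sm aK (fst T X ≫ g) (snd T X) = snd T X at h3
        rw [haK, haN] at h3
        change sm a (fst T X ≫ (g ≫ κ ≫ p) ≫ n) (snd T X) = snd T X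
        simpa only [Category.assoc] using h3)
      rw [h2, MonObj.one_comp, Hom.one_def]
    have h4 : g ≫ κ = 1 := by
      apply hext
      · rw [Category.assoc, h1, MonObj.one_comp]
      · rw [Category.assoc, hκu, MonObj.comp_one, MonObj.one_comp]
    rw [← cancel_mono κ, h4, MonObj.one_comp]
  have huqc : QuasiCompact u.left := K398.Pts.quasiCompact_left u
  have huaff : IsAffineHom u.left := Groth.Agent.Pic13.H965.AffHom.isAffineHom_of_ker u hKaff
  have hHaff : IsAffine H.left := isAffine_of_isAffineHom u.left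
  -- `H ⟶ N` is surjective
  have hsurj : Surjective p.left := by
    refine K398.Pts.surjective_of_forall_pt p fun y => ?_
    obtain ⟨g, g', hg⟩ := exists_pts aN a₀ x hx y
    obtain ⟨h, hh⟩ := (hi4 (𝟙_ _) (lift y (g'⁻¹ * g))).2 (by
      rw [hc, lift_fst, lift_snd, toUnit_unique (toUnit _) (𝟙 _), Category.id_comp, mul_sm,
        commute hN aN a₀ x, hg, ← mul_sm, inv_mul_cancel, one_sm])
    refine ⟨h, ?_⟩
    change h ≫ i ≫ fst N G₀ = y
    rw [← Category.assoc, hh, lift_fst]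
  have hNaff : IsAffine N.left := K398.Pts.isAffine_of_surjective p
  exact hN4 (K393.AntiMin.trivial_of_affine_of_antiAffine N hN)

end K244.AffCrit
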