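import Groth.Agent.GIT.K98.OrdPull
import Groth.Agent.AbVar.K515.FF
import Groth.Agent.AutSch.K936.CurvePerm

/-!
# Automorphisms fixing the boundary divisors and the numerical class of an ample class

`X` integral, normal; `δ` an automorphism of `X` stabilising the open `U` and fixing the points of codimension one
outside of `U`.  A class which is trivial on `U` is fixed by `δ` (`pull_eq`).  If `X` is proper over a field, `L`
ample and `(δ^*c / c)^N = 1` on `U` (`c` the class of `L`) then `δ^*L` and `L` are numerically equivalent.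
-/

set_option autoImplicit false
universe u

open CategoryTheory CategoryTheory.Limits MonoidalCategory CartesianMonoidalCategory AlgebraicGeometry TopologicalSpace
open Groth.Agent.Grpsch.PicGrp Groth.Agent.Dix.Center Groth.Agent.Grpsch.GrowthFF Groth.Agent.Fdesc.LocGen
  Groth.Agent.Lefpen.H725.CocDef Groth.Agent.Lefpen.H521.CartierCoc K515.FF

namespace K244.NumTriv

section Coc

variable {X : Scheme.{u}} [IsIntegral X]

theorem fm_surjective {U V : Scheme.{u}} [IsIntegral U] [IsIntegral V] (j : U ⟶ V)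
    [IsOpenImmersion j] (hη : j (genericPoint U) = genericPoint V) :
    Function.Surjective (fm j hη) := by
  intro c
  obtain ⟨t, ht⟩ := (ConcreteCategory.bijective_of_isIso (j.stalkMap (genericPoint U))).2 c
  refine ⟨toK V (j (genericPoint U)) t, ?_⟩
  rw [fm_toK, ht]
  exact congr($(TopCat.Presheaf.stalkSpecializes_refl U.presheaf (genericPoint U)) c)

/-- The cocycle of a module which is trivial on the open `U`. -/
theorem exists_const {U : X.Opens} (hU : (U : Set X).Nonempty) {E : X.Modules} (hE : PicF.IsInvertible E)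
    {a : X → X.functionField} (h : HasCoc E a) (he : pull U.ι (mk E hE) = 1) :
    ∃ c : X.functionField, c ≠ 0 ∧ ∀ x ∈ U, UnitAt x (c * a x) := by
  have hne : Nonempty U := hU.to_subtype
  have hη : U.ι (genericPoint U) = genericPoint X := genericPoint_eq_of_isOpenImmersion U.ι
  have h1 := hasCoc_pullback U.ι hη h
  rw [pull_mk, mk_eq_one_iff] at he
  obtain ⟨c, hc, h2⟩ := exists_const_of_nonempty_iso h1 K172.CocOrd.hasCoc_structureModule he
  obtain ⟨c', rfl⟩ := fm_surjective U.ι hη c
  refine ⟨c', (map_ne_zero _).1 hc, fun x hx => ?_⟩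
  have h3 := h2 (⟨x, hx⟩ : U)
  rw [div_one, ← map_mul] at h3
  exact unitAt_of_fm U.ι hη h3

variable [IsLocallyNoetherian X]

/-- A class which is trivial on the `D`-stable open `U` is `D`-invariant when the automorphism `D` fixes the points
of codimension one outside of `U`. -/
theorem pull_eq (hX : ∀ x : X, IsIntegrallyClosed (X.presheaf.stalk x)) (D : X ⟶ X) [IsIso D] {U : X.Opens}
    (hU : (U : Set X).Nonempty) (hDU : D ⁻¹ᵁ U = U)
    (hD : ∀ y : X, y ∉ U → Order.coheight y = 1 → D y = y) (e : Pic X) (he : pull U.ι e = 1) :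
    pull D e = e := by
  obtain ⟨E, hE, rfl⟩ := exists_mk e
  obtain ⟨a, ha⟩ := exists_hasCoc hE
  obtain ⟨c, hc, hcU⟩ := exists_const hU hE ha he
  have h0 : ∀ x, c * a x ≠ 0 := fun x => mul_ne_zero hc (ha.1 x)
  have hη : D (genericPoint X) = genericPoint X := genericPoint_eq_of_isOpenImmersion D
  have hη' : (𝟙 X : X ⟶ X) (genericPoint X) = genericPoint X := rfl
  have hloc : ∀ x, ∃ V : X.Opens, x ∈ V ∧ ∀ z ∈ V, Order.coheight z = 1 →
      Scheme.ord (c * a x) z = Scheme.ord (c * a z) z := by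
    intro x
    obtain ⟨V, hxV, hV⟩ := hasCoc_loc ha x
    refine ⟨V, hxV, fun z hz _ => ?_⟩
    have h1 := K172.CocOrd.ord_of_unitAt (hV z hz)
    have h2 : c * a x = (c * a z) * (a x / a z) := by
      have := ha.1 z
      field_simp
    rw [h2, Scheme.ord_mul (h0 z) (div_ne_zero (ha.1 x) (ha.1 z)), h1, add_zero]
  have hinv : ∀ w : X, Order.coheight w = 1 → Scheme.ord (c * a (D w)) (D w) =
      Scheme.ord (c * a ((𝟙 X : X ⟶ X) w)) ((𝟙 X : X ⟶ X) w) := by
    intro w hw
    by_cases hwU : w ∈ U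
    · have h1 : D w ∈ U := by
        rw [← hDU] at hwU
        exact hwU
      rw [K172.CocOrd.ord_of_unitAt (hcU _ h1)]
      exact (K172.CocOrd.ord_of_unitAt (hcU _ hwU)).symm
    · rw [hD w hwU hw]
      rfl
  have key := fun z => K98.OrdPull.unitAt_pull hX hX D (𝟙 X) hη hη' (fun z => Scheme.ord (c * a z) z)
    (fun x hx => Scheme.ord_eq_zero_of_coheight_neq_one hx _) (fun x => c * a x) h0 hloc hinv z
  rw [pull_mk, mk_eq_iff]
  refine hasCoc_iso (hasCoc_pullback D hη ha) ha (fm D hη c / c) (div_ne_zero ((map_ne_zero _).2 hc) hc) fun x => ?_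
  refine unitAt_congr (key x) ?_
  have e1 : ∀ (f : X ⟶ X) (hf : f (genericPoint X) = genericPoint X) (φ : X.functionField),
      K98.OrdPull.fm f hf φ = fm f hf φ := fun f hf φ => rfl
  rw [e1, e1, fm_id, map_mul]
  have h1 : a ((𝟙 X : X ⟶ X) x) = a x := rfl
  rw [h1]
  have := ha.1 x
  field_simp

end Coc

section Deg

open Groth.Agent.Pic13.H950.NumCl K936.CurvePerm

variable {k : Type u} [Field k] {X : Over (Spec (CommRingCat.of k))}

/-- Ample classes are positive on curves. -/
theorem dgo_pos [IsProper X.hom] {L : X.left.Modules} (hL : CohB1.IsAmple L) (C : Curve X.left) :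
    0 < dgo C (mk L hL.1) := by
  have := C.closed
  have := C.integral
  rw [dgo_mk]
  have h1 : IsProper (C.ι ≫ X.hom) := inferInstance
  exact (Groth.Agent.Pic13.H945.DegAmple.isAmple_iff_curveDeg_pos k (C.ι ≫ X.hom) C.dim
    (isInvertible_pullback C.ι hL.1)).mp (Groth.Agent.CohqB.AmpCocycle.isAmple_pullback C.ι hL)

/-- If `δ^* c = c e` and `δ^* e = e`, then all the powers `c e^j` are pullbacks of `c`. -/
theorem exists_pull (δ : X ≅ X) (c e : Pic X.left) (h : pull δ.hom.left c = c * e) (he : pull δ.hom.left e = e)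
    (j : ℕ) : ∃ g : X ≅ X, pull g.hom.left c = c * e ^ j := by
  induction j with
  | zero => exact ⟨Iso.refl X, by rw [pow_zero, mul_one]; exact pull_id c⟩
  | succ j ih =>
    obtain ⟨g, hg⟩ := ih
    refine ⟨δ ≪≫ g, ?_⟩
    rw [Iso.trans_hom, Over.comp_left, pull_comp, hg, map_mul, map_pow, he, h, pow_succ', mul_assoc]

theorem nonneg [IsProper X.hom] {L : X.left.Modules} (hL : CohB1.IsAmple L) (C : Curve X.left) (N : ℕ)
    (δ : X ≅ X) (e : Pic X.left) (h : pull δ.hom.left ((mk L hL.1) ^ N) = (mk L hL.1) ^ N * e)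
    (he : pull δ.hom.left e = e) : 0 ≤ dgo C e := by
  by_contra hneg
  rw [not_le] at hneg
  set d := dgo C (mk L hL.1) with hd
  have hd0 : 0 < d := dgo_pos hL C
  obtain ⟨g, hg⟩ := exists_pull δ _ e h he (N * d.toNat + 1)
  have h1 : dgo C (pull g.hom.left ((mk L hL.1) ^ N)) = N * dgo (mapC g.hom C) (mk L hL.1) := by
    rw [dgo_pull, dgo_pow]
  rw [hg, dgo_mul, dgo_pow, dgo_pow, ← hd] at h1
  have h2 : 0 < dgo (mapC g.hom C) (mk L hL.1) := dgo_pos hL (mapC g.hom C)
  have h3 : 0 ≤ (N : ℤ) * dgo (mapC g.hom C) (mk L hL.1) := by positivity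
  rw [← h1] at h3
  push_cast at h3
  rw [Int.toNat_of_nonneg hd0.le] at h3
  nlinarith [mul_nonneg (Int.natCast_nonneg N) hd0.le]

/-- The numerical class of `δ^*L` is the one of `L`. -/
theorem dgo_pull_eq [IsProper X.hom] [IsIntegral X.left]
    (hX : ∀ x : X.left, IsIntegrallyClosed (X.left.presheaf.stalk x)) {U : X.left.Opens}
    (hU : (U : Set X.left).Nonempty) (δ : X ≅ X) (hδU : δ.hom.left ⁻¹ᵁ U = U)
    (hδ : ∀ y : X.left, y ∉ U → Order.coheight y = 1 → δ.hom.left y = y)
    {L : X.left.Modules} (hL : CohB1.IsAmple L) (N : ℕ) (hN : N ≠ 0)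
    (h : pull U.ι ((pull δ.hom.left (mk L hL.1) / mk L hL.1) ^ N) = 1) (C : Curve X.left) :
    dgo C (pull δ.hom.left (mk L hL.1)) = dgo C (mk L hL.1) := by
  have hNoeth : IsLocallyNoetherian X.left := LocallyOfFiniteType.isLocallyNoetherian X.hom
  have hδi : IsIso δ.hom.left := isIso_left δ.hom
  set c := mk L hL.1 with hc
  set e := (pull δ.hom.left c / c) ^ N with he
  have h1 : pull δ.hom.left e = e := pull_eq hX δ.hom.left hU hδU hδ e h
  have h2 : pull δ.hom.left (c ^ N) = c ^ N * e := by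
    rw [he, map_pow, div_pow, mul_div_cancel]
  have h3 : ∀ a : Pic X.left, pull δ.symm.hom.left (pull δ.hom.left a) = a := by
    intro a
    rw [← pull_comp, ← Over.comp_left, Iso.symm_hom, Iso.inv_hom_id]
    exact pull_id a
  have h4 : pull δ.symm.hom.left e = e := by
    conv_lhs => rw [← h1]
    rw [h3]
  have h5 : pull δ.symm.hom.left (c ^ N) = c ^ N * e⁻¹ := by
    have h6 := congrArg (pull δ.symm.hom.left) h2
    rw [h3, map_mul, h4] at h6
    rw [eq_mul_inv_iff_mul_eq]
    exact h6.symm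
  have h7 := nonneg hL C N δ e h2 h1
  have h8 := nonneg hL C N δ.symm e⁻¹ h5 (by rw [map_inv, h4])
  rw [dgo_inv] at h8
  have h9 : dgo C e = 0 := le_antisymm (by linarith) h7
  rw [he, dgo_pow, div_eq_mul_inv, dgo_mul, dgo_inv] at h9
  rcases mul_eq_zero.1 h9 with h10 | h10
  · exact absurd (by exact_mod_cast h10) hN
  · linarith

/-- NODE E : `δ^*L ⊗ M` is numerically trivial for every inverse `M` of `L`. -/
theorem isNumEquivZero [IsProper X.hom] [IsIntegral X.left]
    (hX : ∀ x : X.left, IsIntegrallyClosed (X.left.presheaf.stalk x)) {U : X.left.Opens}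
    (hU : (U : Set X.left).Nonempty) (δ : X ≅ X) (hδU : δ.hom.left ⁻¹ᵁ U = U)
    (hδ : ∀ y : X.left, y ∉ U → Order.coheight y = 1 → δ.hom.left y = y)
    {L : X.left.Modules} (hL : CohB1.IsAmple L) (N : ℕ) (hN : N ≠ 0)
    (h : pull U.ι ((pull δ.hom.left (mk L hL.1) / mk L hL.1) ^ N) = 1)
    (M : X.left.Modules) (hM : PicF.IsInvertible M)
    (hLM : Nonempty (CohB1.tensorMod L M ≅ Coh.structureModule X.left)) :
    @Pic13.IsNumEquivZero k _ X.left ⟨X.hom⟩
      (CohB1.tensorMod ((Scheme.Modules.pullback δ.hom.left).obj L) M) := by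
  let _ : X.left.Over (Spec (CommRingCat.of k)) := ⟨X.hom⟩
  have hp : IsProper (X.left ↘ Spec (CommRingCat.of k)) := ‹IsProper X.hom›
  have h1 : mk M hM = (mk L hL.1)⁻¹ := by
    have h1 : mk L hL.1 * mk M hM = 1 := by
      rw [mk_mul_mk, mk_eq_one_iff]
      exact hLM
    exact eq_inv_of_mul_eq_one_right h1
  have h2 : PicF.IsInvertible (CohB1.tensorMod ((Scheme.Modules.pullback δ.hom.left).obj L) M) :=
    isInvertible_tensorMod (isInvertible_pullback _ hL.1) hM
  rw [← mem_numCl_iff k X.left h2, mem_numCl]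
  intro C
  have h3 : mk _ h2 = pull δ.hom.left (mk L hL.1) * (mk L hL.1)⁻¹ := by
    rw [← h1, pull_mk, mk_mul_mk]
  change dgo C (mk _ h2) = 0
  rw [h3, dgo_mul, dgo_inv, dgo_pull_eq hX hU δ hδU hδ hL N hN h C, add_neg_cancel]

end Deg

end K244.NumTriv
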