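import Groth.Agent.AlgGrp.K408.AlmPlan
import Groth.Agent.AlgGrp.K244.AffCrit
import Groth.Agent.AlgGrp.K244.NumTriv
import Groth.Agent.Dix.ProjProper

/-!
# The nodes B and E of `AlmPlan`
-/

set_option autoImplicit false
universe u
open CategoryTheory MonoidalCategory CartesianMonoidalCategory MonObj GrpObj AlgebraicGeometry Limits
open Groth.Agent.AlgGrp.K408

namespace K244.AlmNodes

theorem isProper {X S : Scheme.{u}} {f : X ⟶ S} (hX : RelProj.IsHProjective f) : IsProper f := by
  obtain ⟨n, i, hi, h⟩ := hX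
  rw [← h]
  have := Groth.Agent.Dix.ProjProper.isProper_toBase n S
  infer_instance

theorem nodeB : AlmPlan.NodeB.{u} := by
  intro k _ _ G₀ X _ _ _ _ _ hXn hX a₀ x hx G _ _ _ _ a ha
  have := isProper hX
  have hqc : QuasiCompact X.hom := inferInstance
  exact AffCrit.isAffine a₀ x hx G a ha

theorem nodeE : AlmPlan.NodeE.{u} := by
  intro k _ _ X _ hXn hX U hU δ hδU hδ L hL hLa N hN h M hM hLM
  have := isProper hX
  exact NumTriv.isNumEquivZero (fun x => (hXn x).2) hU δ hδU hδ hLa N (by omega) h M hM hLM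

end K244.AlmNodes
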