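import Groth.Agent.Ega4late.H535.PicPrincipal
import Groth.Agent.Sga3C.DimTop
import Mathlib.AlgebraicGeometry.Noetherian
import Mathlib.CategoryTheory.Monoidal.Cartesian.Over

/-!
# The points of codimension one outside of an open subset

`X` integral and of finite type over a field, `U` a nonempty open subset: `bd U`, the set of the points of codimension
one outside of `U`, is finite (`finite_bd`); automorphisms stabilising `U` permute it (`perm`); automorphisms with the
same permutation differ by an automorphism fixing `bd U` pointwise.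
-/

set_option autoImplicit false
universe u
open CategoryTheory AlgebraicGeometry

namespace K244.Boundary

theorem coheight_eq {X Y : Scheme.{u}} (f : X ⟶ Y) [IsIso f] (x : X) : Order.coheight (f x) = Order.coheight x :=
  Groth.Agent.Sga3C.DimTop.coheight_homeomorph (Scheme.homeoOfIso (asIso f)) x

section Sch

variable {X : Scheme.{u}}

/-- The points of codimension one outside of `U`. -/
def bd (U : X.Opens) : Set X := {y | y ∉ U ∧ Order.coheight y = 1}

theorem finite_bd' [IsIntegral X] [IsLocallyNoetherian X] [CompactSpace X] {U : X.Opens}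
    (hU : (U : Set X).Nonempty) : (bd U).Finite := by
  obtain ⟨x, hx⟩ := hU
  have h := Groth.Agent.Ega4late.H535.PicPrincipal.finite_coheight_one U
    ((genericPoint_specializes x).mem_open U.2 hx)
  refine h.subset fun y hy => ⟨hy.2, hy.1⟩

theorem mapsTo (f : X ⟶ X) [IsIso f] {U : X.Opens} (hf : f ⁻¹ᵁ U = U) {y : X} (hy : y ∈ bd U) : f y ∈ bd U := by
  refine ⟨fun h => hy.1 ?_, (coheight_eq f y).trans hy.2⟩
  rw [← hf]
  exact h

end Sch

variable {k : Type u} [Field k] {X : Over (Spec (CommRingCat.of k))}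

theorem finite_bd [IsIntegral X.left] [LocallyOfFiniteType X.hom] [QuasiCompact X.hom] {U : X.left.Opens}
    (hU : (U : Set X.left).Nonempty) : (bd U).Finite := by
  have h1 : CompactSpace X.left := QuasiCompact.compactSpace_of_compactSpace X.hom
  have h2 : IsLocallyNoetherian X.left := LocallyOfFiniteType.isLocallyNoetherian X.hom
  exact finite_bd' hU

theorem isIso_left (γ : X ≅ X) : IsIso γ.hom.left := inferInstanceAs (IsIso ((Over.forget _).map γ.hom))

theorem inv_hom (γ : X ≅ X) (y : X.left) : γ.hom.left (γ.inv.left y) = y := by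
  have h : γ.inv.left ≫ γ.hom.left = 𝟙 _ := by rw [← Over.comp_left, γ.inv_hom_id, Over.id_left]
  exact congrArg (fun f : X.left ⟶ X.left => f y) h

theorem hom_inv (γ : X ≅ X) (y : X.left) : γ.inv.left (γ.hom.left y) = y := inv_hom γ.symm y

theorem preimage_symm {γ : X ≅ X} {U : X.left.Opens} (h : γ.hom.left ⁻¹ᵁ U = U) : γ.inv.left ⁻¹ᵁ U = U := by
  conv_lhs => rw [← h]
  ext y
  change γ.hom.left (γ.inv.left y) ∈ U ↔ y ∈ U
  rw [inv_hom]

/-- The permutation of the boundary points defined by an automorphism stabilising `U`. -/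
noncomputable def perm {U : X.left.Opens} (γ : X ≅ X) (h : γ.hom.left ⁻¹ᵁ U = U) : Equiv.Perm (bd U) where
  toFun y := ⟨γ.hom.left y.1, by
    have := isIso_left γ
    exact mapsTo γ.hom.left h y.2⟩
  invFun y := ⟨γ.inv.left y.1, by
    have := isIso_left γ.symm
    exact mapsTo γ.symm.hom.left (preimage_symm h) y.2⟩
  left_inv y := Subtype.ext (hom_inv γ y.1)
  right_inv y := Subtype.ext (inv_hom γ y.1)

theorem perm_apply {U : X.left.Opens} (γ : X ≅ X) (h : γ.hom.left ⁻¹ᵁ U = U) (y : bd U) :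
    (perm γ h y : X.left) = γ.hom.left y.1 := rfl

/-- Automorphisms with the same permutation: `γ₁ ≪≫ γ₂⁻¹` fixes the boundary points. -/
theorem fix_of_perm_eq {U : X.left.Opens} {γ₁ γ₂ : X ≅ X} (h₁ : γ₁.hom.left ⁻¹ᵁ U = U) (h₂ : γ₂.hom.left ⁻¹ᵁ U = U)
    (h : perm γ₁ h₁ = perm γ₂ h₂) (y : X.left) (hy : y ∉ U) (hy' : Order.coheight y = 1) :
    (γ₁ ≪≫ γ₂.symm).hom.left y = y := by
  have h1 : γ₁.hom.left y = γ₂.hom.left y := congrArg (fun p => (p ⟨y, hy, hy'⟩ : bd U).1) h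
  have h2 : (γ₁ ≪≫ γ₂.symm).hom.left y = γ₂.inv.left (γ₁.hom.left y) := by
    rw [Iso.trans_hom, Over.comp_left, Scheme.Hom.comp_apply, Iso.symm_hom]
  rw [h2, h1, hom_inv]

/-- Automorphisms with the same permutation: `γ₂⁻¹ ≪≫ γ₁` fixes the boundary points. -/
theorem fix_of_perm_eq' {U : X.left.Opens} {γ₁ γ₂ : X ≅ X} (h₁ : γ₁.hom.left ⁻¹ᵁ U = U) (h₂ : γ₂.hom.left ⁻¹ᵁ U = U)
    (h : perm γ₁ h₁ = perm γ₂ h₂) (y : X.left) (hy : y ∉ U) (hy' : Order.coheight y = 1) :
    (γ₂.symm ≪≫ γ₁).hom.left y = y := by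
  have hz : γ₂.inv.left y ∈ bd U := by
    have := isIso_left γ₂.symm
    exact mapsTo γ₂.symm.hom.left (preimage_symm h₂) ⟨hy, hy'⟩
  have h1 : γ₁.hom.left (γ₂.inv.left y) = γ₂.hom.left (γ₂.inv.left y) :=
    congrArg (fun p => (p ⟨γ₂.inv.left y, hz⟩ : bd U).1) h
  have h2 : (γ₂.symm ≪≫ γ₁).hom.left y = γ₁.hom.left (γ₂.inv.left y) := by
    rw [Iso.trans_hom, Over.comp_left, Scheme.Hom.comp_apply, Iso.symm_hom]
  rw [h2, h1, inv_hom]

theorem preimage_trans {γ₁ γ₂ : X ≅ X} {U : X.left.Opens} (h₁ : γ₁.hom.left ⁻¹ᵁ U = U)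
    (h₂ : γ₂.hom.left ⁻¹ᵁ U = U) : (γ₁ ≪≫ γ₂).hom.left ⁻¹ᵁ U = U := by
  have : (γ₁ ≪≫ γ₂).hom.left ⁻¹ᵁ U = γ₁.hom.left ⁻¹ᵁ (γ₂.hom.left ⁻¹ᵁ U) := by
    rw [Iso.trans_hom, Over.comp_left, Scheme.Hom.comp_preimage]
  rw [this, h₂, h₁]

end K244.Boundary
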